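import Cfsg.Agent.L0.CosetChain

/-! Generated coset table certificate. -/

set_option autoImplicit false
set_option maxRecDepth 100000

namespace Cfsg.Agent.L0.M12Pc3

noncomputable def t0 : BT := .node (.leaf (nat_lit 0x2244524569dc66a756600000002f299a24dca709b4d4400000004d51288d58765a795880000000d32b0dca6689269211000000013802408449a38962e200000003869b34e9a44a89434400000004440701805010035f800000000011024090240902000)) (.leaf (nat_lit 0x173a8a8a2cca3a71b53))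

noncomputable def tree : BT := t0

noncomputable def row : ℕ → ℕ := rowOf tree (nat_lit 3) (nat_lit 7) (nat_lit 103) (nat_lit 0x7fffffffffffffffffffffffff)

noncomputable def cols : List Col := [⟨nat_lit 13, nat_lit 1, [([nat_lit 13], nat_lit 0), ([nat_lit 43, nat_lit 43], nat_lit 0), ([nat_lit 23, nat_lit 23], nat_lit 0)]⟩,
  ⟨nat_lit 23, nat_lit 1, [([nat_lit 33], nat_lit 0), ([nat_lit 13, nat_lit 23], nat_lit 0), ([nat_lit 23, nat_lit 13], nat_lit 0)]⟩,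
  ⟨nat_lit 33, nat_lit 1, [([nat_lit 23], nat_lit 0), ([nat_lit 43, nat_lit 23, nat_lit 43], nat_lit 0)]⟩,
  ⟨nat_lit 43, nat_lit 1, [([nat_lit 53], nat_lit 0), ([nat_lit 43, nat_lit 13], nat_lit 0), ([nat_lit 13, nat_lit 43], nat_lit 0)]⟩,
  ⟨nat_lit 53, nat_lit 1, [([nat_lit 43], nat_lit 0)]⟩,
  ⟨nat_lit 63, nat_lit 0, [([nat_lit 63], nat_lit 0), ([nat_lit 53, nat_lit 63, nat_lit 23, nat_lit 43, nat_lit 63, nat_lit 33], nat_lit 0), ([nat_lit 33, nat_lit 63, nat_lit 53, nat_lit 63, nat_lit 23, nat_lit 43], nat_lit 0), ([nat_lit 23, nat_lit 43, nat_lit 63, nat_lit 33, nat_lit 63, nat_lit 53], nat_lit 0)]⟩]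

noncomputable def erots : List (List ℕ × ℕ) := []

noncomputable def gens : List ℕ := [nat_lit 13, nat_lit 23, nat_lit 33, nat_lit 43, nat_lit 53, nat_lit 63]

noncomputable def chk : ℕ → Bool := chkRow0 row (nat_lit 9) (nat_lit 0xf) (nat_lit 0x70) (nat_lit 7) (nat_lit 0x7) (nat_lit 0) (nat_lit 0xf) (nat_lit 4) (nat_lit 0x7f) (nat_lit 0x1800) [] cols gens

theorem b0 : allR chk 4 0 = true := by decide +kernel

noncomputable def T : CT := ⟨row, nat_lit 9, nat_lit 9, nat_lit 0xf, nat_lit 0x70, nat_lit 7, nat_lit 0x7, nat_lit 0, nat_lit 0xf, nat_lit 4, nat_lit 0x7f, nat_lit 0x1800, nat_lit 103, nat_lit 103, nat_lit 0, nat_lit 7, [], cols, erots, gens⟩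

theorem all : ∀ c < 9, chk c = true := fun c hc =>
  allR_glue (d := 4) (n := 1) (forall_lt_succ' forall_lt_zero' b0) c (lt_of_lt_of_le hc (by norm_num))

/-- the relators used -/
def R : List (List ℕ) := [[nat_lit 0, nat_lit 0],
  [nat_lit 1, nat_lit 2],
  [nat_lit 0, nat_lit 1, nat_lit 1],
  [nat_lit 3, nat_lit 4],
  [nat_lit 0, nat_lit 3, nat_lit 3],
  [nat_lit 1, nat_lit 3, nat_lit 2, nat_lit 3],
  [nat_lit 5, nat_lit 5],
  [nat_lit 1, nat_lit 3, nat_lit 5, nat_lit 2, nat_lit 5, nat_lit 4, nat_lit 5]]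

theorem cert : Cert T (R.map fun r => (r, 0)) ([0, 1, 2, 3, 4].map fun y => (y, 0)) 13 10 [0, 1, 2, 3, 4, 5] :=
  ⟨by decide +kernel, ⟨[[(0, 0), (4, 0), (2, 0)], [(1, 0), (2, 2), (2, 1)], [(1, 1), (5, 2)], [(3, 0), (4, 1), (4, 2)], [(3, 1)], [(6, 0), (7, 4), (7, 2), (7, 6)]], [], by decide +kernel⟩, by decide +kernel, Or.inl ⟨rfl, all⟩⟩

theorem bound {Γ : Type*} [Group Γ] {x : ℕ → Γ} (hR : ∀ r ∈ R, ev x r = 1) {n : ℕ}
    (h : CardLe x [0, 1, 2, 3, 4] n) : CardLe x [0, 1, 2, 3, 4, 5] (9 * n) :=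
  cert.cardLe rfl hR h

end Cfsg.Agent.L0.M12Pc3
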