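import Cfsg.Agent.L0.CosetChain

/-! Generated coset table certificate. -/

set_option autoImplicit false
set_option maxRecDepth 100000

namespace Cfsg.Agent.L0.M12Pc4

noncomputable def t0 : BT := .node (.leaf (nat_lit 0x55d7a4d1136e9394ddb62000007215644e24565da8a1ac200000525c7565ba4d1134d5a22000007a9690280944da469998200000751e44dda84d62644d8e20000088d120200701805011401000004440350ab24caa26c8ca000000008812048120481204000)) (.leaf (nat_lit 0x5d6e85191559d484e6364000006da55456466a1c78aa2c4))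

noncomputable def tree : BT := t0

noncomputable def row : ℕ → ℕ := rowOf tree (nat_lit 3) (nat_lit 7) (nat_lit 104) (nat_lit 0xffffffffffffffffffffffffff)

noncomputable def cols : List Col := [⟨nat_lit 14, nat_lit 1, [([nat_lit 14], nat_lit 0), ([nat_lit 24, nat_lit 24], nat_lit 0), ([nat_lit 44, nat_lit 44], nat_lit 0)]⟩,
  ⟨nat_lit 24, nat_lit 1, [([nat_lit 34], nat_lit 0), ([nat_lit 14, nat_lit 24], nat_lit 0), ([nat_lit 24, nat_lit 14], nat_lit 0), ([nat_lit 74, nat_lit 24, nat_lit 44, nat_lit 74], nat_lit 0)]⟩,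
  ⟨nat_lit 34, nat_lit 1, [([nat_lit 24], nat_lit 0), ([nat_lit 44, nat_lit 24, nat_lit 44], nat_lit 0)]⟩,
  ⟨nat_lit 44, nat_lit 1, [([nat_lit 54], nat_lit 0), ([nat_lit 44, nat_lit 14], nat_lit 0), ([nat_lit 14, nat_lit 44], nat_lit 0), ([nat_lit 74, nat_lit 24, nat_lit 74, nat_lit 24], nat_lit 0)]⟩,
  ⟨nat_lit 54, nat_lit 1, [([nat_lit 44], nat_lit 0)]⟩,
  ⟨nat_lit 64, nat_lit 1, [([nat_lit 64], nat_lit 0), ([nat_lit 54, nat_lit 64, nat_lit 24, nat_lit 44, nat_lit 64, nat_lit 34], nat_lit 0), ([nat_lit 34, nat_lit 64, nat_lit 54, nat_lit 64, nat_lit 24, nat_lit 44], nat_lit 0), ([nat_lit 24, nat_lit 44, nat_lit 64, nat_lit 34, nat_lit 64, nat_lit 54], nat_lit 0)]⟩,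
  ⟨nat_lit 74, nat_lit 0, [([nat_lit 74], nat_lit 0), ([nat_lit 24, nat_lit 74, nat_lit 24, nat_lit 44], nat_lit 0), ([nat_lit 64, nat_lit 74, nat_lit 64, nat_lit 74, nat_lit 64], nat_lit 0)]⟩]

noncomputable def erots : List (List ℕ × ℕ) := []

noncomputable def gens : List ℕ := [nat_lit 14, nat_lit 24, nat_lit 34, nat_lit 44, nat_lit 54, nat_lit 64, nat_lit 74]

noncomputable def chk : ℕ → Bool := chkRow0 row (nat_lit 10) (nat_lit 0xf) (nat_lit 0x70) (nat_lit 7) (nat_lit 0x7) (nat_lit 0) (nat_lit 0xf) (nat_lit 4) (nat_lit 0x7f) (nat_lit 0x3800) [] cols gens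

theorem b0 : allR chk 4 0 = true := by decide +kernel

noncomputable def T : CT := ⟨row, nat_lit 10, nat_lit 10, nat_lit 0xf, nat_lit 0x70, nat_lit 7, nat_lit 0x7, nat_lit 0, nat_lit 0xf, nat_lit 4, nat_lit 0x7f, nat_lit 0x3800, nat_lit 104, nat_lit 104, nat_lit 0, nat_lit 7, [], cols, erots, gens⟩

theorem all : ∀ c < 10, chk c = true := fun c hc =>
  allR_glue (d := 4) (n := 1) (forall_lt_succ' forall_lt_zero' b0) c (lt_of_lt_of_le hc (by norm_num))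

/-- the relators used -/
def R : List (List ℕ) := [[nat_lit 0, nat_lit 0],
  [nat_lit 1, nat_lit 2],
  [nat_lit 0, nat_lit 1, nat_lit 1],
  [nat_lit 3, nat_lit 4],
  [nat_lit 0, nat_lit 3, nat_lit 3],
  [nat_lit 1, nat_lit 3, nat_lit 2, nat_lit 3],
  [nat_lit 5, nat_lit 5],
  [nat_lit 1, nat_lit 3, nat_lit 5, nat_lit 2, nat_lit 5, nat_lit 4, nat_lit 5],
  [nat_lit 6, nat_lit 6],
  [nat_lit 1, nat_lit 3, nat_lit 6, nat_lit 1, nat_lit 6],
  [nat_lit 5, nat_lit 6, nat_lit 5, nat_lit 6, nat_lit 5, nat_lit 6]]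

theorem cert : Cert T (R.map fun r => (r, 0)) ([0, 1, 2, 3, 4, 5].map fun y => (y, 0)) 14 10 [0, 1, 2, 3, 4, 5, 6] :=
  ⟨by decide +kernel, ⟨[[(0, 0), (2, 0), (4, 0)], [(1, 0), (2, 2), (2, 1), (9, 3)], [(1, 1), (5, 2)], [(3, 0), (4, 1), (4, 2), (9, 1)], [(3, 1)], [(6, 0), (7, 4), (7, 2), (7, 6)], [(8, 0), (9, 2), (10, 1)]], [], by decide +kernel⟩, by decide +kernel, Or.inl ⟨rfl, all⟩⟩

theorem bound {Γ : Type*} [Group Γ] {x : ℕ → Γ} (hR : ∀ r ∈ R, ev x r = 1) {n : ℕ}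
    (h : CardLe x [0, 1, 2, 3, 4, 5] n) : CardLe x [0, 1, 2, 3, 4, 5, 6] (10 * n) :=
  cert.cardLe rfl hR h

end Cfsg.Agent.L0.M12Pc4
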