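import Cfsg.Agent.L0.CosetChain

/-! Generated coset table certificate. -/

set_option autoImplicit false
set_option maxRecDepth 100000

namespace Cfsg.Agent.L0.M12Pc5

noncomputable def t0 : BT := .node (.leaf (nat_lit 0x7384d94134854846868a74a9d2880014adac93e50cd8492e10e50da3e1000726c53a224124234c94988278c8400110e19402d1671e10cd0490d226100000a6a48a449800941282362586840020d51980210da09d0d189504a0e10004114c74360070060050040035880000008804804804804804804804000)) (.leaf (nat_lit 0x1c5d5690558ed92e3ed42dc6f4a4000414b4b76a58ab7a57ab6ab1ad88c001c25b21b9d05111589dada263323))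

noncomputable def tree : BT := t0

noncomputable def row : ℕ → ℕ := rowOf tree (nat_lit 3) (nat_lit 7) (nat_lit 122) (nat_lit 0x3ffffffffffffffffffffffffffffff)

noncomputable def cols : List Col := [⟨nat_lit 14, nat_lit 1, [([nat_lit 14], nat_lit 0), ([nat_lit 26, nat_lit 26], nat_lit 0), ([nat_lit 50, nat_lit 50], nat_lit 0), ([nat_lit 98, nat_lit 26, nat_lit 50, nat_lit 74, nat_lit 98, nat_lit 74, nat_lit 86, nat_lit 26, nat_lit 98], nat_lit 0)]⟩,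
  ⟨nat_lit 26, nat_lit 1, [([nat_lit 38], nat_lit 0), ([nat_lit 26, nat_lit 14], nat_lit 0), ([nat_lit 14, nat_lit 26], nat_lit 0), ([nat_lit 86, nat_lit 26, nat_lit 50, nat_lit 86], nat_lit 0)]⟩,
  ⟨nat_lit 38, nat_lit 1, [([nat_lit 26], nat_lit 0), ([nat_lit 50, nat_lit 26, nat_lit 50], nat_lit 0), ([nat_lit 74, nat_lit 62, nat_lit 74, nat_lit 26, nat_lit 50, nat_lit 74], nat_lit 0)]⟩,
  ⟨nat_lit 50, nat_lit 1, [([nat_lit 14, nat_lit 50], nat_lit 0), ([nat_lit 62], nat_lit 0), ([nat_lit 50, nat_lit 14], nat_lit 0), ([nat_lit 86, nat_lit 26, nat_lit 86, nat_lit 26], nat_lit 0), ([nat_lit 74, nat_lit 98, nat_lit 86, nat_lit 26, nat_lit 74, nat_lit 50, nat_lit 98], nat_lit 0)]⟩,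
  ⟨nat_lit 62, nat_lit 1, [([nat_lit 50], nat_lit 0), ([nat_lit 74, nat_lit 26, nat_lit 50, nat_lit 74, nat_lit 38, nat_lit 74], nat_lit 0)]⟩,
  ⟨nat_lit 74, nat_lit 1, [([nat_lit 74], nat_lit 0), ([nat_lit 86, nat_lit 74, nat_lit 86, nat_lit 74, nat_lit 86], nat_lit 0), ([nat_lit 38, nat_lit 74, nat_lit 62, nat_lit 74, nat_lit 26, nat_lit 50], nat_lit 0), ([nat_lit 98, nat_lit 86, nat_lit 26, nat_lit 74, nat_lit 50, nat_lit 98, nat_lit 50], nat_lit 0)]⟩,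
  ⟨nat_lit 86, nat_lit 1, [([nat_lit 86], nat_lit 0), ([nat_lit 26, nat_lit 86, nat_lit 26, nat_lit 50], nat_lit 0), ([nat_lit 26, nat_lit 50, nat_lit 86, nat_lit 26], nat_lit 0), ([nat_lit 26, nat_lit 74, nat_lit 50, nat_lit 98, nat_lit 50, nat_lit 74, nat_lit 98], nat_lit 0), ([nat_lit 26, nat_lit 98, nat_lit 14, nat_lit 98, nat_lit 26, nat_lit 50, nat_lit 74, nat_lit 98, nat_lit 74], nat_lit 0)]⟩,
  ⟨nat_lit 98, nat_lit 0, [([nat_lit 98], nat_lit 0), ([nat_lit 86, nat_lit 26, nat_lit 74, nat_lit 50, nat_lit 98, nat_lit 50, nat_lit 74], nat_lit 0), ([nat_lit 26, nat_lit 50, nat_lit 74, nat_lit 98, nat_lit 74, nat_lit 86, nat_lit 26, nat_lit 98, nat_lit 14], nat_lit 0)]⟩]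

noncomputable def erots : List (List ℕ × ℕ) := []

noncomputable def gens : List ℕ := [nat_lit 14, nat_lit 26, nat_lit 38, nat_lit 50, nat_lit 62, nat_lit 74, nat_lit 86, nat_lit 98]

noncomputable def chk : ℕ → Bool := chkRow0 row (nat_lit 11) (nat_lit 0xf) (nat_lit 0x1f0) (nat_lit 9) (nat_lit 0x7) (nat_lit 0) (nat_lit 0xf) (nat_lit 4) (nat_lit 0xff) (nat_lit 0x3000) [] cols gens

theorem b0 : allR chk 4 0 = true := by decide +kernel

noncomputable def T : CT := ⟨row, nat_lit 11, nat_lit 11, nat_lit 0xf, nat_lit 0x1f0, nat_lit 9, nat_lit 0x7, nat_lit 0, nat_lit 0xf, nat_lit 4, nat_lit 0xff, nat_lit 0x3000, nat_lit 122, nat_lit 122, nat_lit 0, nat_lit 10, [], cols, erots, gens⟩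

theorem all : ∀ c < 11, chk c = true := fun c hc =>
  allR_glue (d := 4) (n := 1) (forall_lt_succ' forall_lt_zero' b0) c (lt_of_lt_of_le hc (by norm_num))

/-- the relators used -/
def R : List (List ℕ) := [[nat_lit 0, nat_lit 0],
  [nat_lit 1, nat_lit 2],
  [nat_lit 0, nat_lit 1, nat_lit 1],
  [nat_lit 3, nat_lit 4],
  [nat_lit 0, nat_lit 3, nat_lit 3],
  [nat_lit 1, nat_lit 3, nat_lit 2, nat_lit 3],
  [nat_lit 5, nat_lit 5],
  [nat_lit 1, nat_lit 3, nat_lit 5, nat_lit 2, nat_lit 5, nat_lit 4, nat_lit 5],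
  [nat_lit 6, nat_lit 6],
  [nat_lit 1, nat_lit 3, nat_lit 6, nat_lit 1, nat_lit 6],
  [nat_lit 5, nat_lit 6, nat_lit 5, nat_lit 6, nat_lit 5, nat_lit 6],
  [nat_lit 7, nat_lit 7],
  [nat_lit 1, nat_lit 5, nat_lit 3, nat_lit 7, nat_lit 3, nat_lit 5, nat_lit 7, nat_lit 6],
  [nat_lit 0, nat_lit 7, nat_lit 1, nat_lit 3, nat_lit 5, nat_lit 7, nat_lit 5, nat_lit 6, nat_lit 1, nat_lit 7]]

theorem cert : Cert T (R.map fun r => (r, 0)) ([0, 1, 2, 3, 4, 5, 6].map fun y => (y, 0)) 14 12 [0, 1, 2, 3, 4, 5, 6, 7] :=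
  ⟨by decide +kernel, ⟨[[(0, 0), (2, 0), (4, 0), (13, 0)], [(1, 0), (2, 1), (2, 2), (9, 3)], [(1, 1), (5, 2), (7, 3)], [(4, 2), (3, 0), (4, 1), (9, 1), (12, 4)], [(3, 1), (7, 5)], [(6, 0), (10, 0), (7, 2), (12, 5)], [(8, 0), (9, 2), (9, 4), (12, 7), (13, 7)], [(11, 0), (12, 6), (13, 1)]], [], by decide +kernel⟩, by decide +kernel, Or.inl ⟨rfl, all⟩⟩

theorem bound {Γ : Type*} [Group Γ] {x : ℕ → Γ} (hR : ∀ r ∈ R, ev x r = 1) {n : ℕ}
    (h : CardLe x [0, 1, 2, 3, 4, 5, 6] n) : CardLe x [0, 1, 2, 3, 4, 5, 6, 7] (11 * n) :=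
  cert.cardLe rfl hR h

end Cfsg.Agent.L0.M12Pc5
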