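import Cfsg.Agent.L0.CosetChain

/-! Generated coset table certificate. -/

set_option autoImplicit false
set_option maxRecDepth 100000

namespace Cfsg.Agent.L0.M12Pc6

noncomputable def t0 : BT := .node (.leaf (nat_lit 0x72a56c6e352a4346134e943a43767e4e6ee8fd094a68268489f4993050ccca4191d225803116b2a50d104d0d59396ad805b6ac6aa64805209c1231331b2529c66497009437a2843562641361e54468249f08ce01000e00c00a00898c504400e88b10910a0c90cb0898c8b780011009009009009009009009008000)) (.leaf (nat_lit 0x77c75855b41666c67c92c53c74c896aaca82ba98ed6b172f6af76d769718d14e2ce9be5c610551198a1b9e32619a48a49ca8520a25b25ab5bc6c26d44b3))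

noncomputable def tree : BT := t0

noncomputable def row : ℕ → ℕ := rowOf tree (nat_lit 3) (nat_lit 7) (nat_lit 123) (nat_lit 0x7ffffffffffffffffffffffffffffff)

noncomputable def cols : List Col := [⟨nat_lit 15, nat_lit 1, [([nat_lit 15], nat_lit 0), ([nat_lit 27, nat_lit 27], nat_lit 0), ([nat_lit 51, nat_lit 51], nat_lit 0), ([nat_lit 99, nat_lit 27, nat_lit 51, nat_lit 75, nat_lit 99, nat_lit 75, nat_lit 87, nat_lit 27, nat_lit 99], nat_lit 0)]⟩,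
  ⟨nat_lit 27, nat_lit 1, [([nat_lit 39], nat_lit 0), ([nat_lit 27, nat_lit 15], nat_lit 0), ([nat_lit 15, nat_lit 27], nat_lit 0), ([nat_lit 87, nat_lit 27, nat_lit 51, nat_lit 87], nat_lit 0), ([nat_lit 111, nat_lit 87, nat_lit 51, nat_lit 75, nat_lit 87, nat_lit 27, nat_lit 111], nat_lit 0)]⟩,
  ⟨nat_lit 39, nat_lit 1, [([nat_lit 27], nat_lit 0), ([nat_lit 51, nat_lit 27, nat_lit 51], nat_lit 0), ([nat_lit 75, nat_lit 63, nat_lit 75, nat_lit 27, nat_lit 51, nat_lit 75], nat_lit 0)]⟩,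
  ⟨nat_lit 51, nat_lit 1, [([nat_lit 15, nat_lit 51], nat_lit 0), ([nat_lit 63], nat_lit 0), ([nat_lit 87, nat_lit 27, nat_lit 87, nat_lit 27], nat_lit 0), ([nat_lit 51, nat_lit 15], nat_lit 0), ([nat_lit 75, nat_lit 99, nat_lit 87, nat_lit 27, nat_lit 75, nat_lit 51, nat_lit 99], nat_lit 0)]⟩,
  ⟨nat_lit 63, nat_lit 1, [([nat_lit 51], nat_lit 0), ([nat_lit 75, nat_lit 27, nat_lit 51, nat_lit 75, nat_lit 39, nat_lit 75], nat_lit 0)]⟩,
  ⟨nat_lit 75, nat_lit 1, [([nat_lit 75], nat_lit 0), ([nat_lit 87, nat_lit 75, nat_lit 87, nat_lit 75, nat_lit 87], nat_lit 0), ([nat_lit 39, nat_lit 75, nat_lit 63, nat_lit 75, nat_lit 27, nat_lit 51], nat_lit 0), ([nat_lit 99, nat_lit 87, nat_lit 27, nat_lit 75, nat_lit 51, nat_lit 99, nat_lit 51], nat_lit 0), ([nat_lit 87, nat_lit 27, nat_lit 111, nat_lit 27, nat_lit 111, nat_lit 87, nat_lit 51], nat_lit 0)]⟩,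
  ⟨nat_lit 87, nat_lit 1, [([nat_lit 87], nat_lit 0), ([nat_lit 27, nat_lit 87, nat_lit 27, nat_lit 51], nat_lit 0), ([nat_lit 27, nat_lit 51, nat_lit 87, nat_lit 27], nat_lit 0), ([nat_lit 111, nat_lit 15, nat_lit 75, nat_lit 15, nat_lit 111], nat_lit 0), ([nat_lit 27, nat_lit 75, nat_lit 51, nat_lit 99, nat_lit 51, nat_lit 75, nat_lit 99], nat_lit 0), ([nat_lit 27, nat_lit 99, nat_lit 15, nat_lit 99, nat_lit 27, nat_lit 51, nat_lit 75, nat_lit 99, nat_lit 75], nat_lit 0)]⟩,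
  ⟨nat_lit 99, nat_lit 1, [([nat_lit 99], nat_lit 0), ([nat_lit 51, nat_lit 75, nat_lit 99, nat_lit 87, nat_lit 27, nat_lit 75, nat_lit 51], nat_lit 0), ([nat_lit 111, nat_lit 99, nat_lit 111, nat_lit 99, nat_lit 111], nat_lit 0), ([nat_lit 87, nat_lit 27, nat_lit 75, nat_lit 51, nat_lit 99, nat_lit 51, nat_lit 75], nat_lit 0), ([nat_lit 27, nat_lit 51, nat_lit 75, nat_lit 99, nat_lit 75, nat_lit 87, nat_lit 27, nat_lit 99, nat_lit 15], nat_lit 0)]⟩,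
  ⟨nat_lit 111, nat_lit 0, [([nat_lit 111], nat_lit 0), ([nat_lit 87, nat_lit 111, nat_lit 15, nat_lit 75, nat_lit 15], nat_lit 0), ([nat_lit 27, nat_lit 111, nat_lit 87, nat_lit 51, nat_lit 75, nat_lit 87, nat_lit 27], nat_lit 0), ([nat_lit 99, nat_lit 111, nat_lit 99, nat_lit 111, nat_lit 99], nat_lit 0), ([nat_lit 87, nat_lit 51, nat_lit 75, nat_lit 87, nat_lit 27, nat_lit 111, nat_lit 27], nat_lit 0)]⟩]

noncomputable def erots : List (List ℕ × ℕ) := []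

noncomputable def gens : List ℕ := [nat_lit 15, nat_lit 27, nat_lit 39, nat_lit 51, nat_lit 63, nat_lit 75, nat_lit 87, nat_lit 99, nat_lit 111]

noncomputable def chk : ℕ → Bool := chkRow0 row (nat_lit 12) (nat_lit 0xf) (nat_lit 0x1f0) (nat_lit 9) (nat_lit 0x7) (nat_lit 0) (nat_lit 0xf) (nat_lit 4) (nat_lit 0xff) (nat_lit 0x7000) [] cols gens

theorem b0 : allR chk 4 0 = true := by decide +kernel

noncomputable def T : CT := ⟨row, nat_lit 12, nat_lit 12, nat_lit 0xf, nat_lit 0x1f0, nat_lit 9, nat_lit 0x7, nat_lit 0, nat_lit 0xf, nat_lit 4, nat_lit 0xff, nat_lit 0x7000, nat_lit 123, nat_lit 123, nat_lit 0, nat_lit 10, [], cols, erots, gens⟩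

theorem all : ∀ c < 12, chk c = true := fun c hc =>
  allR_glue (d := 4) (n := 1) (forall_lt_succ' forall_lt_zero' b0) c (lt_of_lt_of_le hc (by norm_num))

/-- the relators used -/
def R : List (List ℕ) := [[nat_lit 0, nat_lit 0],
  [nat_lit 1, nat_lit 2],
  [nat_lit 0, nat_lit 1, nat_lit 1],
  [nat_lit 3, nat_lit 4],
  [nat_lit 0, nat_lit 3, nat_lit 3],
  [nat_lit 1, nat_lit 3, nat_lit 2, nat_lit 3],
  [nat_lit 5, nat_lit 5],
  [nat_lit 1, nat_lit 3, nat_lit 5, nat_lit 2, nat_lit 5, nat_lit 4, nat_lit 5],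
  [nat_lit 6, nat_lit 6],
  [nat_lit 1, nat_lit 3, nat_lit 6, nat_lit 1, nat_lit 6],
  [nat_lit 5, nat_lit 6, nat_lit 5, nat_lit 6, nat_lit 5, nat_lit 6],
  [nat_lit 7, nat_lit 7],
  [nat_lit 1, nat_lit 5, nat_lit 3, nat_lit 7, nat_lit 3, nat_lit 5, nat_lit 7, nat_lit 6],
  [nat_lit 0, nat_lit 7, nat_lit 1, nat_lit 3, nat_lit 5, nat_lit 7, nat_lit 5, nat_lit 6, nat_lit 1, nat_lit 7],
  [nat_lit 8, nat_lit 8],
  [nat_lit 0, nat_lit 5, nat_lit 0, nat_lit 8, nat_lit 6, nat_lit 8],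
  [nat_lit 7, nat_lit 8, nat_lit 7, nat_lit 8, nat_lit 7, nat_lit 8],
  [nat_lit 1, nat_lit 8, nat_lit 1, nat_lit 8, nat_lit 6, nat_lit 3, nat_lit 5, nat_lit 6]]

theorem cert : Cert T (R.map fun r => (r, 0)) ([0, 1, 2, 3, 4, 5, 6, 7].map fun y => (y, 0)) 15 12 [0, 1, 2, 3, 4, 5, 6, 7, 8] :=
  ⟨by decide +kernel, ⟨[[(0, 0), (2, 0), (4, 0), (13, 0)], [(1, 0), (2, 1), (2, 2), (9, 3), (17, 2)], [(1, 1), (5, 2), (7, 3)], [(4, 2), (3, 0), (9, 1), (4, 1), (12, 4)], [(3, 1), (7, 5)], [(6, 0), (10, 0), (7, 2), (12, 5), (17, 6)], [(8, 0), (9, 2), (9, 4), (15, 4), (12, 7), (13, 7)], [(11, 0), (12, 3), (16, 0), (12, 6), (13, 1)], [(14, 0), (15, 3), (17, 1), (16, 1), (17, 3)]], [], by decide +kernel⟩, by decide +kernel, Or.inl ⟨rfl, all⟩⟩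

theorem bound {Γ : Type*} [Group Γ] {x : ℕ → Γ} (hR : ∀ r ∈ R, ev x r = 1) {n : ℕ}
    (h : CardLe x [0, 1, 2, 3, 4, 5, 6, 7] n) : CardLe x [0, 1, 2, 3, 4, 5, 6, 7, 8] (12 * n) :=
  cert.cardLe rfl hR h

end Cfsg.Agent.L0.M12Pc6
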